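import Mathlib
import Groth.Agent.Lib.Helper5.LimFib.LfB

/-!
# Prime avoidance for finite sets of points in affine opens (helper5)
-/

set_option autoImplicit false

open CategoryTheory AlgebraicGeometry TopologicalSpace

namespace Groth.Agent.H5.AffT

universe u

/-- Coset prime avoidance. -/
theorem coset_prime_avoidance {R : Type*} [CommRing R] (I : Ideal R) :
    ∀ (s : Finset (Ideal R)), (∀ p ∈ s, p.IsPrime) → (∀ p ∈ s, ¬ I ≤ p) → ∀ x : R,
      ∃ y ∈ I, ∀ p ∈ s, x + y ∉ p := by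
  intro s
  induction s using Finset.strongInduction with
  | H s ih =>
    intro hp hI x
    rcases s.eq_empty_or_nonempty with rfl | hne
    · exact ⟨0, I.zero_mem, by simp⟩
    obtain ⟨p, hpmin⟩ := s.exists_minimal hne
    have hps : p ∈ s := hpmin.prop
    have hp' := hp p hps
    obtain ⟨y', hy'I, hy'⟩ := ih (s.erase p) (Finset.erase_ssubset hps)
      (fun q hq => hp q (Finset.mem_of_mem_erase hq))
      (fun q hq => hI q (Finset.mem_of_mem_erase hq)) x
    by_cases hxp : x + y' ∈ p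
    · have hnot : ¬ (I * ∏ q ∈ s.erase p, q) ≤ p := by
        intro hle
        rcases (Ideal.IsPrime.mul_le hp').mp hle with h | h
        · exact hI p hps h
        · obtain ⟨q, hq, hqp⟩ := (Ideal.IsPrime.prod_le hp').mp h
          have h1 : p ≤ q := hpmin.le_of_le (Finset.mem_of_mem_erase hq) hqp
          exact (Finset.ne_of_mem_erase hq) (le_antisymm hqp h1)
      obtain ⟨z, hz, hzp⟩ := SetLike.not_le_iff_exists.mp hnot
      have hzI : z ∈ I := (Ideal.mul_le_left (I := I) (J := ∏ q ∈ s.erase p, q)) hz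
      have hzP : z ∈ ∏ q ∈ s.erase p, q :=
        (Ideal.mul_le_right (I := I) (J := ∏ q ∈ s.erase p, q)) hz
      refine ⟨y' + z, I.add_mem hy'I hzI, ?_⟩
      intro q hq
      by_cases hqp : q = p
      · subst hqp
        intro h
        apply hzp
        have := q.sub_mem h hxp
        have e : x + (y' + z) - (x + y') = z := by ring
        rwa [e] at this
      · have hmem : q ∈ s.erase p := Finset.mem_erase.mpr ⟨hqp, hq⟩
        have hle1 : (∏ q ∈ s.erase p, q) ≤ q := by
          have h1 : (∏ q ∈ s.erase p, q) ≤ (s.erase p).inf (fun q => q) := Ideal.prod_le_inf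
          have h2 : (s.erase p).inf (fun q => q) ≤ q := Finset.inf_le (f := fun q => q) hmem
          exact h1.trans h2
        have hz_q : z ∈ q := hle1 hzP
        intro h
        apply hy' q (Finset.mem_erase.mpr ⟨hqp, hq⟩)
        have := q.sub_mem h hz_q
        have e : x + (y' + z) - z = x + y' := by ring
        rwa [e] at this
    · refine ⟨y', hy'I, ?_⟩
      intro q hq
      by_cases hqp : q = p
      · subst hqp; exact hxp
      · exact hy' q (Finset.mem_erase.mpr ⟨hqp, hq⟩)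

/-- Set version. -/
theorem coset_prime_avoidance_set {R : Type*} [CommRing R] (I : Ideal R) (P : Set (Ideal R))
    (hP : P.Finite) (hp : ∀ p ∈ P, p.IsPrime) (hI : ∀ p ∈ P, ¬ I ≤ p) (x : R) :
    ∃ y ∈ I, ∀ p ∈ P, x + y ∉ p := by
  obtain ⟨y, hy, h⟩ := coset_prime_avoidance I hP.toFinset
    (fun p hp' => hp p (hP.mem_toFinset.mp hp')) (fun p hp' => hI p (hP.mem_toFinset.mp hp')) x
  exact ⟨y, hy, fun p hp' => h p (hP.mem_toFinset.mpr hp')⟩

/-- The finite set of primes of `Γ(S, A)` attached to a finite set of points of `A`. -/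
noncomputable def primesOf {S : Scheme.{u}} {A : S.Opens} (hA : IsAffineOpen A) (F : Set S) :
    Set (Ideal Γ(S, A)) :=
  (fun t : A => (hA.primeIdealOf t).asIdeal) '' {t : A | t.1 ∈ F}

theorem primesOf_finite {S : Scheme.{u}} {A : S.Opens} (hA : IsAffineOpen A) {F : Set S}
    (hF : F.Finite) : (primesOf hA F).Finite :=
  (hF.preimage Subtype.val_injective.injOn).image _

theorem primesOf_isPrime {S : Scheme.{u}} {A : S.Opens} (hA : IsAffineOpen A) (F : Set S) :
    ∀ p ∈ primesOf hA F, p.IsPrime := by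
  rintro _ ⟨t, _, rfl⟩
  exact (hA.primeIdealOf t).isPrime

theorem mem_basicOpen_of_notMem_primesOf {S : Scheme.{u}} {A : S.Opens} (hA : IsAffineOpen A)
    {F : Set S} (hFA : F ⊆ A) (g : Γ(S, A)) (h : ∀ p ∈ primesOf hA F, g ∉ p) :
    F ⊆ S.basicOpen g := by
  intro t ht
  exact (Groth.Agent.H5.LimFib.mem_basicOpen_iff_notMem_primeIdealOf hA ⟨t, hFA ht⟩ g).mpr
    (h _ ⟨⟨t, hFA ht⟩, ht, rfl⟩)

/-- Prime avoidance for schemes: a finite set of points in `A ∩ V` (`A` affine open) lies in a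
basic open `D(c) ⊆ V`, `c ∈ Γ(A)`. -/
theorem exists_basicOpen_finite {S : Scheme.{u}} {A : S.Opens} (hA : IsAffineOpen A)
    (V : S.Opens) {F : Set S} (hF : F.Finite) (hFA : F ⊆ A) (hFV : F ⊆ V) :
    ∃ c : Γ(S, A), S.basicOpen c ≤ V ∧ F ⊆ S.basicOpen c := by
  classical
  have hex : ∀ t : S, t ∈ F → ∃ f : Γ(S, A), S.basicOpen f ≤ V ∧ t ∈ S.basicOpen f := by
    intro t ht
    exact hA.exists_basicOpen_le (V := V) ⟨t, hFV ht⟩ (hFA ht)
  choose! e he using hex
  let I : Ideal Γ(S, A) := Ideal.span (e '' F)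
  have hI : ∀ p ∈ primesOf hA F, ¬ I ≤ p := by
    rintro _ ⟨t, ht, rfl⟩ hle
    have h1 : e t.1 ∈ (hA.primeIdealOf t).asIdeal :=
      hle (Ideal.subset_span ⟨t.1, ht, rfl⟩)
    exact (Groth.Agent.H5.LimFib.mem_basicOpen_iff_notMem_primeIdealOf hA t (e t.1)).mp
      (he t.1 ht).2 h1
  obtain ⟨c, hcI, hc⟩ := coset_prime_avoidance_set I (primesOf hA F) (primesOf_finite hA hF)
    (primesOf_isPrime hA F) hI 0
  simp only [zero_add] at hc
  refine ⟨c, ?_, mem_basicOpen_of_notMem_primesOf hA hFA c hc⟩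
  intro x hx
  have hxA : x ∈ A := S.basicOpen_le c hx
  have hcx := (Groth.Agent.H5.LimFib.mem_basicOpen_iff_notMem_primeIdealOf hA ⟨x, hxA⟩ c).mp hx
  by_contra hxV
  apply hcx
  have hle : I ≤ (hA.primeIdealOf ⟨x, hxA⟩).asIdeal := by
    rw [Ideal.span_le]
    rintro _ ⟨t, ht, rfl⟩
    by_contra hn
    exact hxV ((he t ht).1
      ((Groth.Agent.H5.LimFib.mem_basicOpen_iff_notMem_primeIdealOf hA ⟨x, hxA⟩ (e t)).mpr hn))
  exact hle hcI

/-- Coset prime avoidance for schemes: lift a section along a closed immersion, nonvanishing at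
finitely many prescribed points outside the closed subscheme. -/
theorem exists_lift_basicOpen_finite {S S' : Scheme.{u}} (k : S' ⟶ S) [IsClosedImmersion k]
    {A : S.Opens} (hA : IsAffineOpen A) (c : Γ(S', k ⁻¹ᵁ A)) {F : Set S} (hF : F.Finite)
    (hFA : F ⊆ A) (hFk : ∀ t ∈ F, t ∉ Set.range k) :
    ∃ g : Γ(S, A), k.app A g = c ∧ F ⊆ S.basicOpen g := by
  classical
  obtain ⟨g₀, hg₀⟩ := k.app_surjective A hA c
  let I : Ideal Γ(S, A) := RingHom.ker (k.app A).hom
  have hcl : IsClosed (Set.range k) := k.isClosedEmbedding.isClosed_range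
  let V : S.Opens := ⟨(Set.range k)ᶜ, hcl.isOpen_compl⟩
  have hI : ∀ p ∈ primesOf hA F, ¬ I ≤ p := by
    rintro _ ⟨t, ht, rfl⟩ hle
    obtain ⟨e, heV, het⟩ := hA.exists_basicOpen_le (V := V) ⟨t.1, hFk t.1 ht⟩ t.2
    have hbot : S'.basicOpen (k.app A e) = ⊥ := by
      rw [← Scheme.preimage_basicOpen]
      ext y
      simp only [Scheme.Hom.mem_preimage, Opens.coe_bot, Set.mem_empty_iff_false, iff_false,
        SetLike.mem_coe]
      intro hy
      exact heV hy ⟨y, rfl⟩
    have hcpt : IsCompact ((k ⁻¹ᵁ A : S'.Opens) : Set S') := (hA.preimage k).isCompact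
    obtain ⟨n, hn⟩ := (Scheme.isNilpotent_iff_basicOpen_eq_bot_of_isCompact hcpt _).mpr hbot
    have hmem : e ^ n ∈ I := by
      rw [RingHom.mem_ker, map_pow]
      exact hn
    have h1 : e ^ n ∈ (hA.primeIdealOf t).asIdeal := hle hmem
    have h2 : e ∈ (hA.primeIdealOf t).asIdeal := (hA.primeIdealOf t).isPrime.mem_of_pow_mem n h1
    exact (Groth.Agent.H5.LimFib.mem_basicOpen_iff_notMem_primeIdealOf hA t e).mp het h2
  obtain ⟨y, hyI, hy⟩ := coset_prime_avoidance_set I (primesOf hA F) (primesOf_finite hA hF)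
    (primesOf_isPrime hA F) hI g₀
  refine ⟨g₀ + y, ?_, mem_basicOpen_of_notMem_primesOf hA hFA _ hy⟩
  rw [map_add, hg₀]
  have : (k.app A) y = 0 := hyI
  rw [this, add_zero]

end Groth.Agent.H5.AffT
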