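import Mathlib
import Groth.Agent.Lib.Helper5.AffT.AtA
import Groth.Agent.Lib.Helper5.ClosedCover.CcC

/-!
# Affine opens containing finite sets of points, assembled from closed pieces (helper5)
-/

set_option autoImplicit false

open CategoryTheory AlgebraicGeometry TopologicalSpace

namespace Groth.Agent.H5.AffT

universe u

variable {X : Scheme.{u}}

/-- the reduced induced closed subscheme -/
noncomputable abbrev red (Y : Closeds X) : Scheme.{u} :=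
  (Scheme.IdealSheafData.vanishingIdeal Y).subscheme

noncomputable abbrev redι (Y : Closeds X) : red Y ⟶ X :=
  (Scheme.IdealSheafData.vanishingIdeal Y).subschemeι

theorem range_redι (Y : Closeds X) : Set.range (redι Y) = (Y : Set X) := by
  rw [Scheme.IdealSheafData.range_subschemeι]
  simp

theorem redι_mem (Y : Closeds X) (y : red Y) : redι Y y ∈ Y := by
  rw [← SetLike.mem_coe, ← range_redι]
  exact ⟨y, rfl⟩

theorem exists_redι_eq (Y : Closeds X) {x : X} (hx : x ∈ Y) : ∃ y : red Y, redι Y y = x := by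
  rw [← SetLike.mem_coe, ← range_redι] at hx
  exact hx

theorem redι_injective (Y : Closeds X) : Function.Injective (redι Y) :=
  (redι Y).isClosedEmbedding.injective

noncomputable def redIncl {Y Y' : Closeds X} (h : Y ≤ Y') : red Y ⟶ red Y' :=
  Scheme.IdealSheafData.inclusion (Scheme.IdealSheafData.vanishingIdeal_antimono h)

@[reassoc]
theorem redIncl_ι {Y Y' : Closeds X} (h : Y ≤ Y') : redIncl h ≫ redι Y' = redι Y :=
  Scheme.IdealSheafData.inclusion_subschemeι _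

instance {Y Y' : Closeds X} (h : Y ≤ Y') : IsClosedImmersion (redIncl h) := by
  have : IsClosedImmersion (redIncl h ≫ redι Y') := by
    rw [redIncl_ι]; infer_instance
  exact IsClosedImmersion.of_comp (redIncl h) (redι Y')

theorem redIncl_apply {Y Y' : Closeds X} (h : Y ≤ Y') (w : red Y) :
    redι Y' (redIncl h w) = redι Y w := by
  rw [← Scheme.Hom.comp_apply, redIncl_ι]

theorem redIncl_preimage {Y Y' : Closeds X} (h : Y ≤ Y') (U : X.Opens) :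
    redIncl h ⁻¹ᵁ (redι Y' ⁻¹ᵁ U) = redι Y ⁻¹ᵁ U := by
  rw [← Scheme.Hom.comp_preimage, redIncl_ι]

/-- An open subset covered by finitely many closed subschemes with affine traces is affine. -/
theorem isAffineOpen_of_finite_closed_cover {S : Scheme.{u}} (V : S.Opens) {κ : Type} [Finite κ]
    (Z : κ → Scheme.{u}) (j : ∀ k, Z k ⟶ S) [∀ k, IsClosedImmersion (j k)]
    (hV : ∀ k, IsAffineOpen (j k ⁻¹ᵁ V)) (hcov : ∀ x ∈ V, ∃ k, x ∈ Set.range (j k)) :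
    IsAffineOpen V := by
  have h1 : ∀ k, IsAffine ((j k ⁻¹ᵁ V).toScheme) := hV
  have h2 : ∀ k, IsClosedImmersion (j k ∣_ V) := fun k =>
    IsZariskiLocalAtTarget.restrict (P := @IsClosedImmersion)
      (inferInstance : IsClosedImmersion (j k)) V
  refine Groth.Agent.H5.ClosedCover.isAffine_of_finite_closed_cover (X := V.toScheme)
    (fun k => (j k ⁻¹ᵁ V).toScheme) (fun k => j k ∣_ V) ?_
  intro x
  obtain ⟨k, y, hy⟩ := hcov x.1 x.2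
  have hyV : y ∈ j k ⁻¹ᵁ V := by
    show j k y ∈ V
    rw [hy]; exact x.2
  refine ⟨k, ⟨⟨y, hyV⟩, ?_⟩⟩
  apply Subtype.ext
  rw [morphismRestrict_base_coe]
  exact hy

/-- The open complement of `(Y₁ ∖ D₁) ∪ (Y₂ ∖ D₂)`. -/
noncomputable def commonOpen {Y₁ Y₂ : Closeds X} (D₁ : (red Y₁).Opens) (D₂ : (red Y₂).Opens) :
    X.Opens :=
  ⟨(redι Y₁ '' (D₁ : Set (red Y₁))ᶜ ∪ redι Y₂ '' (D₂ : Set (red Y₂))ᶜ)ᶜ, by
    apply isOpen_compl_iff.mpr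
    exact ((redι Y₁).isClosedEmbedding.isClosedMap _ D₁.isOpen.isClosed_compl).union
      ((redι Y₂).isClosedEmbedding.isClosedMap _ D₂.isOpen.isClosed_compl)⟩

theorem mem_commonOpen_iff {Y₁ Y₂ : Closeds X} (D₁ : (red Y₁).Opens) (D₂ : (red Y₂).Opens)
    (x : X) : x ∈ commonOpen D₁ D₂ ↔
      (∀ y, redι Y₁ y = x → y ∈ D₁) ∧ (∀ z, redι Y₂ z = x → z ∈ D₂) := by
  show x ∈ (redι Y₁ '' (D₁ : Set (red Y₁))ᶜ ∪ redι Y₂ '' (D₂ : Set (red Y₂))ᶜ)ᶜ ↔ _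
  rw [Set.mem_compl_iff, Set.mem_union, not_or]
  constructor
  · rintro ⟨h1, h2⟩
    refine ⟨fun y hy => ?_, fun z hz => ?_⟩
    · by_contra hn; exact h1 ⟨y, hn, hy⟩
    · by_contra hn; exact h2 ⟨z, hn, hz⟩
  · rintro ⟨h1, h2⟩
    refine ⟨?_, ?_⟩
    · rintro ⟨y, hn, hy⟩; exact hn (h1 y hy)
    · rintro ⟨z, hn, hz⟩; exact hn (h2 z hz)

theorem commonOpen_comm {Y₁ Y₂ : Closeds X} (D₁ : (red Y₁).Opens) (D₂ : (red Y₂).Opens) :
    commonOpen D₁ D₂ = commonOpen D₂ D₁ := by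
  ext x
  rw [SetLike.mem_coe, SetLike.mem_coe, mem_commonOpen_iff, mem_commonOpen_iff, and_comm]

theorem preimage_commonOpen {Y₁ Y₂ W : Closeds X} (hW₁ : W ≤ Y₁) (hW₂ : W ≤ Y₂)
    (hW : ∀ x, x ∈ Y₁ → x ∈ Y₂ → x ∈ W) (D₁ : (red Y₁).Opens) (D₂ : (red Y₂).Opens)
    (hD : redIncl hW₁ ⁻¹ᵁ D₁ = redIncl hW₂ ⁻¹ᵁ D₂) :
    redι Y₁ ⁻¹ᵁ commonOpen D₁ D₂ = D₁ := by
  ext y
  rw [SetLike.mem_coe, SetLike.mem_coe, Scheme.Hom.mem_preimage, mem_commonOpen_iff]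
  constructor
  · intro h; exact h.1 y rfl
  · intro hy
    refine ⟨fun y' hy' => ?_, fun z hz => ?_⟩
    · rw [redι_injective Y₁ hy']; exact hy
    · have hx₁ : redι Y₁ y ∈ Y₁ := redι_mem Y₁ y
      have hx₂ : redι Y₁ y ∈ Y₂ := hz ▸ redι_mem Y₂ z
      obtain ⟨w, hw⟩ := exists_redι_eq W (hW _ hx₁ hx₂)
      have e₁ : redIncl hW₁ w = y := redι_injective Y₁ (by rw [redIncl_apply, hw])
      have e₂ : redIncl hW₂ w = z := redι_injective Y₂ (by rw [redIncl_apply, hw, hz])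
      have h3 : w ∈ redIncl hW₁ ⁻¹ᵁ D₁ := by
        show redIncl hW₁ w ∈ D₁
        rw [e₁]; exact hy
      rw [hD] at h3
      have h4 : redIncl hW₂ w ∈ D₂ := h3
      rwa [e₂] at h4

/-- Half of the construction: lift a section from `W` to `Y₁`, nonvanishing on `T ∩ Y₁`. -/
theorem exists_lift_half (T : Set X) (hT : T.Finite) {Y₁ Y₂ W : Closeds X} (hW₁ : W ≤ Y₁)
    (hW₂ : W ≤ Y₂) (hW : ∀ x, x ∈ Y₁ → x ∈ Y₂ → x ∈ W) (U₁ : X.Opens)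
    (h₁ : IsAffineOpen (redι Y₁ ⁻¹ᵁ U₁)) (hT₁ : ∀ t ∈ T, t ∈ Y₁ → t ∈ U₁)
    (c : Γ(red W, redIncl hW₁ ⁻¹ᵁ (redι Y₁ ⁻¹ᵁ U₁)))
    (hc : redι W ⁻¹' T ⊆ (red W).basicOpen c) :
    ∃ g : Γ(red Y₁, redι Y₁ ⁻¹ᵁ U₁),
      redIncl hW₁ ⁻¹ᵁ (red Y₁).basicOpen g = (red W).basicOpen c ∧
      ∀ t ∈ T, ∀ y, redι Y₁ y = t → y ∈ (red Y₁).basicOpen g := by
  let F₁ : Set (red Y₁) := {y | redι Y₁ y ∈ T ∧ redι Y₁ y ∉ Y₂}
  have hF₁fin : F₁.Finite :=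
    (hT.preimage (redι_injective Y₁).injOn).subset (fun y hy => hy.1)
  have hF₁A : F₁ ⊆ (redι Y₁ ⁻¹ᵁ U₁ : (red Y₁).Opens) :=
    fun y hy => hT₁ _ hy.1 (redι_mem Y₁ y)
  have hF₁k : ∀ y ∈ F₁, y ∉ Set.range (redIncl hW₁) := by
    rintro y hy ⟨w, rfl⟩
    apply hy.2
    rw [redIncl_apply]
    exact hW₂ (redι_mem W w)
  obtain ⟨g, hgc, hgF⟩ := exists_lift_basicOpen_finite (redIncl hW₁) h₁ c hF₁fin hF₁A hF₁k
  refine ⟨g, ?_, ?_⟩
  · rw [Scheme.preimage_basicOpen, hgc]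
  · intro t ht y hy
    by_cases htY₂ : t ∈ Y₂
    · have htY₁ : t ∈ Y₁ := hy ▸ redι_mem Y₁ y
      obtain ⟨w, hw⟩ := exists_redι_eq W (hW _ htY₁ htY₂)
      have hwF : w ∈ redι W ⁻¹' T := by
        show redι W w ∈ T
        rw [hw]; exact ht
      have h1 : w ∈ (red W).basicOpen c := hc hwF
      rw [← hgc, ← Scheme.preimage_basicOpen] at h1
      have h2 : redIncl hW₁ w ∈ (red Y₁).basicOpen g := h1
      have e₁ : redIncl hW₁ w = y := redι_injective Y₁ (by rw [redIncl_apply, hw, hy])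
      rwa [e₁] at h2
    · apply hgF
      exact ⟨hy ▸ ht, hy ▸ htY₂⟩

theorem exists_common_open (T : Set X) (hT : T.Finite) (Y₁ Y₂ : Closeds X) (U₁ U₂ : X.Opens)
    (h₁ : IsAffineOpen (redι Y₁ ⁻¹ᵁ U₁)) (h₂ : IsAffineOpen (redι Y₂ ⁻¹ᵁ U₂))
    (hT₁ : ∀ t ∈ T, t ∈ Y₁ → t ∈ U₁) (hT₂ : ∀ t ∈ T, t ∈ Y₂ → t ∈ U₂) :
    ∃ U : X.Opens, IsAffineOpen (redι Y₁ ⁻¹ᵁ U) ∧ IsAffineOpen (redι Y₂ ⁻¹ᵁ U) ∧
      ∀ t ∈ T, (t ∈ Y₁ ∨ t ∈ Y₂) → t ∈ U := by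
  classical
  let W : Closeds X := Y₁ ⊓ Y₂
  have hW₁ : W ≤ Y₁ := inf_le_left
  have hW₂ : W ≤ Y₂ := inf_le_right
  have hW : ∀ x, x ∈ Y₁ → x ∈ Y₂ → x ∈ W := fun x h1 h2 => ⟨h1, h2⟩
  have hC₁ : IsAffineOpen (redIncl hW₁ ⁻¹ᵁ (redι Y₁ ⁻¹ᵁ U₁)) := h₁.preimage (redIncl hW₁)
  have hC₂ : IsAffineOpen (redIncl hW₂ ⁻¹ᵁ (redι Y₂ ⁻¹ᵁ U₂)) := h₂.preimage (redIncl hW₂)
  let F : Set (red W) := redι W ⁻¹' T
  have hFfin : F.Finite := hT.preimage (redι_injective W).injOn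
  have hFC₁ : F ⊆ (redIncl hW₁ ⁻¹ᵁ (redι Y₁ ⁻¹ᵁ U₁) : (red W).Opens) := by
    intro w hw
    show redι Y₁ (redIncl hW₁ w) ∈ U₁
    rw [redIncl_apply]
    exact hT₁ _ hw (hW₁ (redι_mem W w))
  have hFC₂ : F ⊆ (redIncl hW₂ ⁻¹ᵁ (redι Y₂ ⁻¹ᵁ U₂) : (red W).Opens) := by
    intro w hw
    show redι Y₂ (redIncl hW₂ w) ∈ U₂
    rw [redIncl_apply]
    exact hT₂ _ hw (hW₂ (redι_mem W w))
  obtain ⟨c₁, hc₁V, hc₁F⟩ := exists_basicOpen_finite hC₁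
    (redIncl hW₂ ⁻¹ᵁ (redι Y₂ ⁻¹ᵁ U₂)) hFfin hFC₁ hFC₂
  obtain ⟨c₂, hc₂V, hc₂F⟩ := exists_basicOpen_finite hC₂ ((red W).basicOpen c₁) hFfin hFC₂ hc₁F
  let c₂' : Γ(red W, (red W).basicOpen c₁) := (red W).presheaf.map (homOfLE hc₁V).op c₂
  obtain ⟨c', hc'⟩ := hC₁.basicOpen_basicOpen_is_basicOpen c₁ c₂'
  have hc'eq : (red W).basicOpen c' = (red W).basicOpen c₂ := by
    rw [hc', Scheme.basicOpen_res]
    exact inf_eq_right.mpr hc₂V
  obtain ⟨g₁, hg₁, hg₁T⟩ := exists_lift_half T hT hW₁ hW₂ hW U₁ h₁ hT₁ c'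
    (by rw [hc'eq]; exact hc₂F)
  obtain ⟨g₂, hg₂, hg₂T⟩ := exists_lift_half T hT hW₂ hW₁ (fun x h2 h1 => hW x h1 h2) U₂ h₂ hT₂ c₂
    hc₂F
  have hD : redIncl hW₁ ⁻¹ᵁ (red Y₁).basicOpen g₁ = redIncl hW₂ ⁻¹ᵁ (red Y₂).basicOpen g₂ := by
    rw [hg₁, hg₂, hc'eq]
  refine ⟨commonOpen ((red Y₁).basicOpen g₁) ((red Y₂).basicOpen g₂), ?_, ?_, ?_⟩
  · rw [preimage_commonOpen hW₁ hW₂ hW _ _ hD]
    exact h₁.basicOpen g₁
  · rw [commonOpen_comm, preimage_commonOpen hW₂ hW₁ (fun x h2 h1 => hW x h1 h2) _ _ hD.symm]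
    exact h₂.basicOpen g₂
  · intro t ht _
    rw [mem_commonOpen_iff]
    exact ⟨fun y hy => hg₁T t ht y hy, fun z hz => hg₂T t ht z hz⟩

/-- The induction predicate. -/
def P (T : Set X) (Y : Closeds X) : Prop :=
  ∃ U : X.Opens, IsAffineOpen (redι Y ⁻¹ᵁ U) ∧ ∀ t ∈ T, t ∈ Y → t ∈ U

theorem P_bot (T : Set X) : P T (⊥ : Closeds X) := by
  refine ⟨⊥, ?_, fun t _ ht => absurd ht
    (by rw [← SetLike.mem_coe, Closeds.coe_bot]; exact Set.notMem_empty t)⟩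
  have : redι (⊥ : Closeds X) ⁻¹ᵁ ⊥ = ⊥ := rfl
  rw [this]
  exact isAffineOpen_bot _

theorem P_sup {T : Set X} (hT : T.Finite) {Y₁ Y₂ : Closeds X} (h₁ : P T Y₁) (h₂ : P T Y₂) :
    P T (Y₁ ⊔ Y₂) := by
  obtain ⟨U₁, hA₁, hT₁⟩ := h₁
  obtain ⟨U₂, hA₂, hT₂⟩ := h₂
  obtain ⟨U, hU₁, hU₂, hTU⟩ := exists_common_open T hT Y₁ Y₂ U₁ U₂ hA₁ hA₂ hT₁ hT₂
  refine ⟨U, ?_, fun t ht htY => hTU t ht htY⟩
  let Yb : Bool → Closeds X := fun b => if b then Y₁ else Y₂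
  have hYb : ∀ b, Yb b ≤ Y₁ ⊔ Y₂ := by
    intro b; cases b
    · exact le_sup_right
    · exact le_sup_left
  refine isAffineOpen_of_finite_closed_cover (S := red (Y₁ ⊔ Y₂)) (redι (Y₁ ⊔ Y₂) ⁻¹ᵁ U)
    (κ := Bool) (fun b => red (Yb b)) (fun b => redIncl (hYb b)) ?_ ?_
  · intro b
    rw [redIncl_preimage]
    cases b
    · exact hU₂
    · exact hU₁
  · intro x _
    have hx : redι (Y₁ ⊔ Y₂) x ∈ Y₁ ⊔ Y₂ := redι_mem _ x
    rcases hx with hx | hx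
    · obtain ⟨y, hy⟩ := exists_redι_eq Y₁ hx
      refine ⟨true, y, ?_⟩
      apply redι_injective (Y₁ ⊔ Y₂)
      rw [redIncl_apply]
      exact hy
    · obtain ⟨y, hy⟩ := exists_redι_eq Y₂ hx
      refine ⟨false, y, ?_⟩
      apply redι_injective (Y₁ ⊔ Y₂)
      rw [redIncl_apply]
      exact hy

theorem P_finset_sup {T : Set X} (hT : T.Finite) (s : Finset (Closeds X))
    (h : ∀ Y ∈ s, P T Y) : P T (s.sup id) := by
  classical
  induction s using Finset.induction_on with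
  | empty => simpa using P_bot T
  | insert a s ha ih =>
    rw [Finset.sup_insert]
    exact P_sup hT (h a (Finset.mem_insert_self a s))
      (ih fun Y hY => h Y (Finset.mem_insert_of_mem hY))

theorem exists_affineOpen_of_components (X : Scheme.{u})
    (hX : (irreducibleComponents (X : Type u)).Finite) (T : Finset X)
    (h : ∀ (Z : Set X) (hZ : Z ∈ irreducibleComponents (X : Type u)),
      ∃ V : (Scheme.IdealSheafData.vanishingIdeal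
          (⟨Z, isClosed_of_mem_irreducibleComponents Z hZ⟩ :
            TopologicalSpace.Closeds X)).subscheme.Opens,
        IsAffineOpen V ∧ ∀ t ∈ T, t ∈ Z → t ∈ (Scheme.IdealSheafData.vanishingIdeal
          (⟨Z, isClosed_of_mem_irreducibleComponents Z hZ⟩ :
            TopologicalSpace.Closeds X)).subschemeι.base '' (V : Set _)) :
    ∃ U : X.Opens, IsAffineOpen U ∧ ∀ t ∈ T, t ∈ U := by
  classical
  let 𝒞 : Set (Closeds X) := {Y | (Y : Set X) ∈ irreducibleComponents (X : Type u)}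
  have h𝒞 : 𝒞.Finite := hX.preimage SetLike.coe_injective.injOn
  have hP : ∀ Y ∈ h𝒞.toFinset, P (T : Set X) Y := by
    intro Y hY
    have hY' : (Y : Set X) ∈ irreducibleComponents (X : Type u) := h𝒞.mem_toFinset.mp hY
    obtain ⟨V, hV, hTV⟩ := h (Y : Set X) hY'
    obtain ⟨t, ht, hpre⟩ := (redι Y).isClosedEmbedding.isInducing.isOpen_iff.mp V.isOpen
    refine ⟨⟨t, ht⟩, ?_, ?_⟩
    · have e : redι Y ⁻¹ᵁ ⟨t, ht⟩ = V := by
        ext y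
        exact Set.ext_iff.mp hpre y
      rw [e]; exact hV
    · intro x hx hxY
      obtain ⟨v, hv, rfl⟩ := hTV x hx hxY
      have : v ∈ redι Y ⁻¹' t := by rw [hpre]; exact hv
      exact this
  obtain ⟨U, hU, hTU⟩ := P_finset_sup T.finite_toSet h𝒞.toFinset hP
  have hall : ∀ x : X, x ∈ h𝒞.toFinset.sup id := by
    intro x
    have hmem : (⟨irreducibleComponent x, isClosed_irreducibleComponent⟩ : Closeds X) ∈
        h𝒞.toFinset := h𝒞.mem_toFinset.mpr (irreducibleComponent_mem_irreducibleComponents x)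
    exact (Finset.le_sup (f := id) hmem) mem_irreducibleComponent
  refine ⟨U, ?_, fun t ht => hTU t ht (hall t)⟩
  refine isAffineOpen_of_finite_closed_cover (S := X) U (κ := Unit)
    (fun _ => red (h𝒞.toFinset.sup id)) (fun _ => redι (h𝒞.toFinset.sup id)) (fun _ => hU) ?_
  intro x _
  obtain ⟨y, hy⟩ := exists_redι_eq _ (hall x)
  exact ⟨(), y, hy⟩

end Groth.Agent.H5.AffT
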